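import Groth.Agent.OmegaDual24.Main
import Groth.Agent.EtDeg8.Degree
import Groth.Agent.AbVarLib.GeomIntegralSmooth
import Groth.Agent.Unram17Lib.RelDim
import Groth.Agent.Omega15.Geometry
import Groth.Agent.GenSmoothLib.SmoothDim
import Groth.Agent.AbVarLib.AlgClosedIntegral

/-!
# `χ(Ω) = -χ(O)` for smooth proper curves, connected or not
-/

set_option autoImplicit false
set_option linter.style.haveILetI false
set_option linter.unusedSectionVars false
set_option backward.isDefEq.respectTransparency.types false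
set_option maxHeartbeats 1000000

universe u

open CategoryTheory CategoryTheory.Limits AlgebraicGeometry Opposite TopologicalSpace
open Groth.Agent.AbCubeLib Groth.Agent.Coherent Groth.Agent.PicLib Groth.Agent.AmpleLib Groth.Agent.EulerLib Groth.Agent.CurveRR24

namespace Groth.Agent.OmegaAmple24

variable {k : Type u} [Field k]

/-- A nonempty connected piece is a curve. -/
theorem krullDim_eq_one {X : Scheme.{u}} (f : X ⟶ Spec (CommRingCat.of k)) [IsIntegral X]
    [SmoothOfRelativeDimension 1 f] : topologicalKrullDim X = 1 := by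
  haveI : Smooth f := SmoothOfRelativeDimension.smooth 1 f
  rw [← GenSmoothLib.localDim_eq_topologicalKrullDim f (genericPoint X)]
  exact Unram17Lib.localDim_of_smoothOfRelativeDimension k f 1 (genericPoint X)

/-- `Ω` is invertible in relative dimension one. -/
theorem isInvertible_omega_pure {X S : Scheme.{u}} (f : X ⟶ S) [SmoothOfRelativeDimension 1 f] [QuasiSeparated f] :
    PicF.IsInvertible (Omega.sheaf f) := by
  haveI : Smooth f := SmoothOfRelativeDimension.smooth 1 f
  intro x
  obtain ⟨U, n, hxU, ⟨e⟩, hn⟩ := OmegaLib.exists_free_rank_fibreDimAt (OmegaLib.isUniversal_dOmega f) x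
  rw [Unram17Lib.fibreDimAt_of_smoothOfRelativeDimension f 1 x] at hn
  have h1 : n = 1 := by exact_mod_cast hn.symm
  subst h1
  exact ⟨U, hxU, ⟨e ≪≫ PicLib.freeModOneIso _⟩⟩

/-- Differentials restrict to opens. -/
theorem nonempty_omega_restrict {X : Scheme.{u}} (f : X ⟶ Spec (CommRingCat.of k)) [QuasiSeparated f]
    (U : X.Opens) [QuasiSeparated (U.ι ≫ f)] :
    Nonempty ((Scheme.Modules.pullback U.ι).obj (Omega.sheaf f) ≅ Omega.sheaf (U.ι ≫ f)) := by
  have w : U.ι ≫ f = (U.ι ≫ f) ≫ 𝟙 _ := (Category.comp_id _).symm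
  obtain ⟨c, hc, -⟩ := Omega15.existsUnique_compat U.ι (𝟙 _) w.symm
    (OmegaLib.isUniversal_dOmega f) (OmegaSh.dOmega (U.ι ≫ f))
  haveI := Omega15.isIso_of_etale U.ι (𝟙 _) w (OmegaLib.isUniversal_dOmega f)
    (OmegaLib.isUniversal_dOmega (U.ι ≫ f)) hc
  exact ⟨asIso c⟩

/-- Points without proper generalisations. -/
abbrev MaxPts (X : Scheme.{u}) : Type u := {z : X // ∀ y : X, y ⤳ z → y = z}

theorem finite_maxPts (X : Scheme.{u}) [IsNoetherian X] : Finite (MaxPts X) := by
  haveI := (NoetherianSpace.finite_irreducibleComponents (α := X)).to_subtype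
  let φ : MaxPts X → irreducibleComponents X := fun z => ⟨closure {z.1}, isIrreducible_singleton.closure, fun Z hZ hle => by
    obtain ⟨y, hy⟩ := QuasiSober.sober hZ.closure isClosed_closure
    have e := z.2 y (hy.specializes (subset_closure (hle (subset_closure rfl))))
    subst e
    exact (subset_closure (s := Z)).trans hy.def.symm.le⟩
  refine Finite.of_injective φ fun a b h => Subtype.ext ?_
  exact (inseparable_iff_closure_eq.2 (congrArg Subtype.val h)).eq

/-- Fewer maximal points on a proper clopen piece. -/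
theorem card_maxPts_lt {X : Scheme.{u}} [IsNoetherian X] (U : X.Opens) (h : ∃ x : X, x ∉ U)
    (hc : IsClosed (U : Set X)) : Nat.card (MaxPts U.toScheme) < Nat.card (MaxPts X) := by
  haveI := finite_maxPts X
  have hm : ∀ z : MaxPts U.toScheme, ∀ y : X, y ⤳ U.ι z.1 → y = U.ι z.1 := fun z y hy => by
    have hyU : y ∈ U := hy.mem_open U.2 z.1.2
    have h' : (⟨y, hyU⟩ : U.toScheme) ⤳ z.1 := U.ι.isEmbedding.toIsInducing.specializes_iff.1 hy
    exact congrArg U.ι (z.2 _ h')
  let φ : MaxPts U.toScheme → MaxPts X := fun z => ⟨U.ι z.1, hm z⟩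
  have hφ : Function.Injective φ := fun a b e =>
    Subtype.ext (U.ι.isEmbedding.injective (congrArg (fun t : MaxPts X => t.1) e))
  by_contra hle
  have hs := (hφ.bijective_of_nat_card_le (not_lt.1 hle)).2
  obtain ⟨x, hx⟩ := h
  obtain ⟨Z, hZ, hZle⟩ := exists_mem_irreducibleComponents_subset_of_isIrreducible _ (isIrreducible_singleton (x := x))
  have hZc := isClosed_of_mem_irreducibleComponents Z hZ
  obtain ⟨z, hz⟩ := QuasiSober.sober hZ.1 hZc
  have hzmax : ∀ y : X, y ⤳ z → y = z := fun y hy => by
    have h1 : closure {z} ⊆ closure ({y} : Set X) :=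
      closure_minimal (Set.singleton_subset_iff.2 hy.mem_closure) isClosed_closure
    rw [hz.def] at h1
    have h2 := hZ.2 isIrreducible_singleton.closure h1
    rw [← hz.def] at h2
    exact (inseparable_iff_closure_eq.2 (Set.Subset.antisymm h2 (hz.def.symm ▸ h1))).eq
  obtain ⟨w, hw⟩ := hs ⟨z, hzmax⟩
  have hzU : z ∈ U := by
    have e : U.ι w.1 = z := congrArg (fun t : MaxPts X => t.1) hw
    rw [← e]
    exact w.1.2
  exact hx ((hz.specializes (hZle rfl)).mem_closed hc hzU)

/-- `χ(Ω) = -χ(O)` on a smooth proper curve over an algebraically closed field. -/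
theorem euler_omega [IsAlgClosed k] : ∀ (n : ℕ) (X : Scheme.{u}) (f : X ⟶ Spec (CommRingCat.of k))
    [IsProper f] [SmoothOfRelativeDimension 1 f], Nat.card (MaxPts X) = n →
    letI : X.Over (Spec (CommRingCat.of k)) := ⟨f⟩
    Curv2.euler k X (Omega.sheaf f) + Curv2.euler k X (Coh.structureModule X) = 0 := by
  intro n
  induction n using Nat.strong_induction_on with
  | _ n ih =>
    intro X f _ _ hn
    letI : X.Over (Spec (CommRingCat.of k)) := ⟨f⟩
    haveI : IsProper (X ↘ Spec (CommRingCat.of k)) := ‹_›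
    haveI : Smooth f := SmoothOfRelativeDimension.smooth 1 f
    haveI := isNoetherian_of_proper k (X := X)
    rcases isEmpty_or_nonempty X with hE | hne
    · have h0 : ∀ M : X.Modules, Curv2.euler k X M = 0 := fun M =>
        IsAdditive.apply_isZero (fun S hS c₁ c₂ c₃ => euler_additive k X S hS c₁ c₂ c₃)
          (fun M N ⟨e⟩ => euler_congr k X e) (EtDeg8.isZero_of_isEmpty M)
      simp [h0]
    by_cases hconn : ConnectedSpace X
    · haveI := AbVarLib.isIntegral_of_smooth_connected f
      have hdim := krullDim_eq_one (k := k) f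
      haveI : Smooth (X ↘ Spec (CommRingCat.of k)) := ‹_›
      haveI : GeometricallyIntegral (X ↘ Spec (CommRingCat.of k)) :=
        AbVarLib.geometricallyIntegral_of_isAlgClosed _
      have hinv := OmegaDual24.isInvertible_omega (k := k) (X := X) hdim
      obtain ⟨h0, h1⟩ := OmegaDual24.finrank_omega_algClosed (k := k) (X := X) hdim
      have hO := CurveRR24.h0_structure_of_geomIntegral k (X := X)
      have e1 := euler_eq_h0_sub_h1 k hdim.le _ (isCoh_of_isInvertible k hinv).1
      have e2 := euler_eq_h0_sub_h1 k hdim.le (Coh.structureModule X) Coherent.isQCoh_structureModule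
      rw [h0, h1] at e1
      rw [hO] at e2
      simp only [Curv2.genus] at e1 e2
      change Curv2.euler k X (Omega.sheaf (X ↘ Spec (CommRingCat.of k))) + _ = 0
      rw [e1, e2]
      push_cast
      ring
    obtain ⟨A, hA, hA0, hA1⟩ : ∃ A : Set X, IsClopen A ∧ A ≠ ∅ ∧ A ≠ Set.univ := by
      by_contra! h
      refine hconn (connectedSpace_iff_clopen.2 ⟨hne, fun A hA => ?_⟩)
      by_cases h0 : A = ∅
      · exact Or.inl h0
      · exact Or.inr (h A hA (Set.nonempty_iff_ne_empty.2 h0))
    let U : X.Opens := ⟨A, hA.2⟩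
    let V : X.Opens := ⟨Aᶜ, hA.1.isOpen_compl⟩
    have hVc : IsClosed (V : Set X) := hA.2.isClosed_compl
    have hUV : U ⊓ V = ⊥ := Opens.ext (Set.inter_compl_self _)
    have hcov : U ⊔ V = ⊤ := Opens.ext (Set.union_compl_self _)
    haveI := EtDeg8.isClosedImmersion_ι U hA.1
    haveI := EtDeg8.isClosedImmersion_ι V hVc
    letI : U.toScheme.Over (Spec (CommRingCat.of k)) := ⟨U.ι ≫ f⟩
    letI : V.toScheme.Over (Spec (CommRingCat.of k)) := ⟨V.ι ≫ f⟩
    haveI : IsProper (U.toScheme ↘ Spec (CommRingCat.of k)) := inferInstanceAs (IsProper (U.ι ≫ f))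
    haveI : IsProper (V.toScheme ↘ Spec (CommRingCat.of k)) := inferInstanceAs (IsProper (V.ι ≫ f))
    haveI : IsProper (U.ι ≫ f) := inferInstance
    haveI : IsProper (V.ι ≫ f) := inferInstance
    haveI : SmoothOfRelativeDimension (0 + 1) (U.ι ≫ f) := inferInstance
    haveI : SmoothOfRelativeDimension (0 + 1) (V.ι ≫ f) := inferInstance
    have hUlt : ∃ x : X, x ∉ U := (Set.ne_univ_iff_exists_notMem A).1 hA1
    have hVlt : ∃ x : X, x ∉ V := by
      obtain ⟨x, hx⟩ := Set.nonempty_iff_ne_empty.2 hA0
      exact ⟨x, fun h => h hx⟩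
    have eU := ih _ (hn ▸ card_maxPts_lt U hUlt hA.1) U.toScheme (U.ι ≫ f) rfl
    have eV := ih _ (hn ▸ card_maxPts_lt V hVlt hVc) V.toScheme (V.ι ≫ f) rfl
    have hΩ : Coh.IsCoh (Omega.sheaf f) := isCoh_of_isInvertible k (isInvertible_omega_pure f)
    have hO : Coh.IsCoh (Coh.structureModule X) := Coherent.isCoh_structureModule X
    have split : ∀ {M : X.Modules}, Coh.IsCoh M → Curv2.euler k X M =
        Curv2.euler k U.toScheme ((Scheme.Modules.pullback U.ι).obj M) +
          Curv2.euler k V.toScheme ((Scheme.Modules.pullback V.ι).obj M) := fun {M} hM => by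
      obtain ⟨h1, e1⟩ := EtDeg8.euler_piece k U rfl hM
      obtain ⟨h2, e2⟩ := EtDeg8.euler_piece k V rfl hM
      rw [EtDeg8.euler_clopen k U V hUV hcov hM h1 h2, e1, e2]
    obtain ⟨a⟩ := nonempty_omega_restrict f U
    obtain ⟨b⟩ := nonempty_omega_restrict f V
    rw [split hΩ, split hO, euler_congr k _ a, euler_congr k _ b,
      euler_congr k _ (PicLoc.pullbackStructureIso U.ι), euler_congr k _ (PicLoc.pullbackStructureIso V.ι)]
    linarith

/-- `deg Ω = -2 χ(O)` for a smooth proper curve over any field. -/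
theorem deg_omega_eq {X : Scheme.{u}} [X.Over (Spec (CommRingCat.of k))]
    [IsProper (X ↘ Spec (CommRingCat.of k))] [SmoothOfRelativeDimension 1 (X ↘ Spec (CommRingCat.of k))] :
    Curv2.deg k X (Omega.sheaf (X ↘ Spec (CommRingCat.of k))) 1 =
      -2 * Curv2.euler k X (Coh.structureModule X) := by
  let q := X ↘ Spec (CommRingCat.of k)
  let K := AlgebraicClosure k
  let X' := pullback q (Spec.map (CommRingCat.ofHom (algebraMap k K)))
  let g : X' ⟶ X := pullback.fst _ _
  let _ : X'.Over (Spec (CommRingCat.of K)) := ⟨pullback.snd _ _⟩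
  let q' := X' ↘ Spec (CommRingCat.of K)
  have hpb : IsPullback g q' q (Spec.map (CommRingCat.ofHom (algebraMap k K))) :=
    IsPullback.of_hasPullback _ _
  haveI : IsProper q' := MorphismProperty.of_isPullback hpb inferInstance
  haveI := smoothOfRelativeDimension_isStableUnderBaseChange 1
  haveI : SmoothOfRelativeDimension 1 q' := MorphismProperty.of_isPullback hpb inferInstance
  haveI := isNoetherian_of_proper k (X := X)
  haveI : Coh.IsQCoh (Omega.sheaf q) := OmegaLib.isQCoh_of_isUniversal (OmegaLib.isUniversal_dOmega q)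
  haveI : Coh.IsQCoh (Coh.structureModule X) := Coherent.isQCoh_structureModule
  obtain ⟨c, hc, -⟩ := Omega15.existsUnique_compat g (Spec.map (CommRingCat.ofHom (algebraMap k K))) hpb.w.symm
    (OmegaLib.isUniversal_dOmega q) (OmegaSh.dOmega q')
  haveI := Omega15.isIso_of_isPullback hpb (OmegaLib.isUniversal_dOmega q) (OmegaLib.isUniversal_dOmega q') hc
  haveI := isNoetherian_of_proper K (X := X')
  have h : Curv2.euler K X' (Omega.sheaf q') + Curv2.euler K X' (Coh.structureModule X') = 0 :=
    euler_omega (k := K) _ X' q' rfl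
  rw [← euler_congr K X' (asIso c), euler_bc hpb (Omega.sheaf q),
    ← euler_congr K X' (PicLoc.pullbackStructureIso g), euler_bc hpb (Coh.structureModule X)] at h
  simp only [Curv2.deg, Nat.cast_one, one_mul]
  linarith

end Groth.Agent.OmegaAmple24
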